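import Groth.Agent.SGA3Bounded26.Points
import Groth.Agent.SGA3cLib.Components
import Groth.Agent.SGA3cLib.ArtinComponent
import Groth.Agent.SGA3Power26.PowerCentral
import Groth.Agent.DimLib.Components

/-!
# Rational neutral points of a commutative group over an algebraically closed field

Images of power maps on the neutral points are closed; they are everything when the exponent is invertible
and they become stationary along the powers of any number.
-/

set_option autoImplicit false
set_option backward.isDefEq.respectTransparency.types false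
set_option linter.style.haveILetI false

universe u

open CategoryTheory Limits MonoidalCategory CartesianMonoidalCategory AlgebraicGeometry MonObj
open Groth.Agent.SGA3Bounded26

namespace Groth.Agent.NeronComp27

variable {Ω : Type u} [Field Ω] [IsAlgClosed Ω] (G : Over (Spec (CommRingCat.of Ω))) [GrpObj G]
  [LocallyOfFiniteType G.hom]

/-- A subgroup containing a nonempty relatively open piece of an irreducible subgroup is that subgroup. -/
theorem le_of_open_piece {Γ : Type*} [Group Γ] [TopologicalSpace Γ] (hΓ : AlgTop Γ) {J K : Subgroup Γ}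
    (hK : IsIrreducible (K : Set Γ)) {U : Set Γ} (hU : IsOpen U) (hne : ((K : Set Γ) ∩ U).Nonempty)
    (hsub : (K : Set Γ) ∩ U ⊆ J) : K ≤ J := fun x hx => by
  obtain ⟨u₀, hu₀, hu₀U⟩ := hne
  have hV : IsOpen {y : Γ | y⁻¹ * x ∈ U} := hU.preimage ((hΓ.mulRight x).comp hΓ.inv)
  obtain ⟨y, hy, hyU, hyV⟩ := hK.2 U _ hU hV ⟨u₀, hu₀, hu₀U⟩
    ⟨x * u₀⁻¹, mul_mem hx (inv_mem hu₀), by simpa using hu₀U⟩
  have h2 : y⁻¹ * x ∈ J := hsub ⟨mul_mem (inv_mem hy) hx, hyV⟩
  simpa using mul_mem (hsub ⟨hy, hyU⟩) h2

omit [IsAlgClosed Ω] [LocallyOfFiniteType G.hom] in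
/-- Two points lie in one component exactly when their quotient is neutral. -/
theorem mem_component_iff (x y : 𝟙_ (Over (Spec (CommRingCat.of Ω))) ⟶ G) :
    pImg G y ∈ connectedComponent (pImg G x) ↔ pImg G (x⁻¹ * y) ∈ connectedComponent (pImg G 1) := by
  constructor
  · intro h
    have h' := component_comp G (const G x⁻¹ * 𝟙 G) h
    rwa [MonObj.comp_mul, comp_const, Category.comp_id, MonObj.comp_mul, comp_const, Category.comp_id,
      inv_mul_cancel] at h'
  · intro h
    have h' := component_comp G (const G x * 𝟙 G) (y := 1) h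
    rwa [MonObj.comp_mul, comp_const, Category.comp_id, MonObj.comp_mul, comp_const, Category.comp_id,
      _root_.mul_one, mul_inv_cancel_left] at h'

variable [IsCommMonObj G]

/-- The power map. -/
noncomputable abbrev powMap (n : ℕ) : G ⟶ G := (𝟙 G : G ⟶ G) ^ n

omit [IsAlgClosed Ω] [LocallyOfFiniteType G.hom] [IsCommMonObj G] in
theorem pImg_pow (x : 𝟙_ (Over (Spec (CommRingCat.of Ω))) ⟶ G) (n : ℕ) :
    (powMap G n).left.base (pImg G x) = pImg G (x ^ n) := by
  rw [← pImg_comp, MonObj.comp_pow, Category.comp_id]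

/-- The `n`-th powers of neutral points. -/
noncomputable def powPts (n : ℕ) : Subgroup (𝟙_ (Over (Spec (CommRingCat.of Ω))) ⟶ G) :=
  (neutralPts G).map (powMonoidHom n)

theorem powPts_le (n : ℕ) : powPts G n ≤ neutralPts G := by
  rintro _ ⟨w, hw, rfl⟩
  exact pow_mem hw n

theorem powPts_mul_le (a b : ℕ) : powPts G (a * b) ≤ powPts G a := by
  rintro _ ⟨w, hw, rfl⟩
  exact ⟨w ^ b, pow_mem hw b, by simp [← pow_mul, mul_comm]⟩

/-- Closed points of the image of the neutral component are powers. -/
theorem mem_powPts {n : ℕ} {x : 𝟙_ (Over (Spec (CommRingCat.of Ω))) ⟶ G}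
    (hx : pImg G x ∈ (powMap G n).left.base '' connectedComponent (pImg G 1)) : x ∈ powPts G n := by
  haveI : JacobsonSpace G.left := LocallyOfFiniteType.jacobsonSpace G.hom
  obtain ⟨a, ha, hax⟩ := hx
  obtain ⟨c, ⟨hc, hcm⟩, hcc⟩ := nonempty_inter_closedPoints
    (Z := connectedComponent (pImg G 1) ∩ (powMap G n).left.base ⁻¹' {pImg G x}) ⟨a, ha, hax⟩
    (isClosed_connectedComponent.inter ((isClosed_pImg G x).preimage (powMap G n).left.continuous)).isLocallyClosed
  obtain ⟨w, rfl⟩ := exists_pImg G c hcc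
  refine ⟨w, hc, pImg_injective G ?_⟩
  rw [powMonoidHom_apply, ← pImg_pow]
  exact hcm

theorem pImg_powPts_mem {n : ℕ} {x : 𝟙_ (Over (Spec (CommRingCat.of Ω))) ⟶ G} (hx : x ∈ powPts G n) :
    pImg G x ∈ (powMap G n).left.base '' connectedComponent (pImg G 1) := by
  obtain ⟨w, hw, rfl⟩ := hx
  exact ⟨pImg G w, hw, by rw [pImg_pow]; rfl⟩

/-- Neutral points are divisible by exponents invertible in the field. -/
theorem powPts_eq_of_ne_zero {n : ℕ} (hn : (n : Ω) ≠ 0) : powPts G n = neutralPts G := by
  haveI : IsLocallyNoetherian G.left := LocallyOfFiniteType.isLocallyNoetherian G.hom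
  haveI : Etale (powMap G n).left := SGA3Power26.etale_of_isCommMonObj G hn
  let O : Set G.left := (powMap G n).left.base '' connectedComponent (pImg G 1)
  have hO : IsOpen O := (powMap G n).left.isOpenMap _ (SGA3cLib.isOpen_connectedComponent _)
  refine le_antisymm (powPts_le G n) (le_of_open_piece (algTop G) (isIrreducible_neutralPts G)
    (hO.preimage (isInducing_pImg G).continuous) ⟨1, one_mem _, ?_⟩ ?_)
  · exact ⟨pImg G 1, mem_connectedComponent, by rw [pImg_pow, one_pow]⟩
  · rintro x ⟨-, hx⟩
    exact mem_powPts G hx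

/-- Neutral points have roots of every order invertible in the field. -/
theorem exists_root {n : ℕ} (hn : (n : Ω) ≠ 0) {x : 𝟙_ (Over (Spec (CommRingCat.of Ω))) ⟶ G}
    (hx : x ∈ neutralPts G) : ∃ w ∈ neutralPts G, w ^ n = x := by
  rw [← powPts_eq_of_ne_zero G hn] at hx
  exact hx

variable [CompactSpace G.left]

/-- The powers of neutral points form a closed subgroup. -/
theorem isClosed_powPts (n : ℕ) :
    IsClosed (powPts G n : Set (𝟙_ (Over (Spec (CommRingCat.of Ω))) ⟶ G)) := by
  haveI : IsLocallyNoetherian G.left := LocallyOfFiniteType.isLocallyNoetherian G.hom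
  haveI : JacobsonSpace G.left := LocallyOfFiniteType.jacobsonSpace G.hom
  haveI : QuasiCompact G.hom := AlgebraicGeometry.quasiCompact_of_compactSpace G.hom
  haveI : LocallyOfFiniteType ((powMap G n).left ≫ G.hom) := by rw [Over.w]; infer_instance
  haveI : QuasiCompact ((powMap G n).left ≫ G.hom) := by rw [Over.w]; infer_instance
  let C := connectedComponent (pImg G 1)
  have hCi : IsIrreducible C := by
    show IsIrreducible (connectedComponent (pImg G 1))
    rw [pImg_one, AlgGrpLib.ConnComp.connectedComponent_eq G]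
    exact isIrreducible_irreducibleComponent
  obtain ⟨Θ, hΘ⟩ := QuasiSober.sober hCi isClosed_connectedComponent
  obtain ⟨V, hV, hΘV, hVsub⟩ := DimLib.exists_open_subset_image G.hom (powMap G n).left
    (SGA3cLib.isOpen_connectedComponent (pImg G 1)) hΘ.mem
  let J := powPts G n
  obtain ⟨L, hL⟩ := exists_closure_subgroup (algTop G) J
  have hJi : IsIrreducible (J : Set (𝟙_ (Over (Spec (CommRingCat.of Ω))) ⟶ G)) := by
    have hc : Continuous fun x : 𝟙_ (Over (Spec (CommRingCat.of Ω))) ⟶ G => x ^ n :=
      (continuous_comp G (powMap G n)).congr fun x => by rw [MonObj.comp_pow, Category.comp_id]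
    exact (isIrreducible_neutralPts G).image _ hc.continuousOn
  have hLi : IsIrreducible (L : Set (𝟙_ (Over (Spec (CommRingCat.of Ω))) ⟶ G)) := hL ▸ hJi.closure
  have hLZ : ∀ x ∈ L, (powMap G n).left.base Θ ⤳ pImg G x := by
    intro x hx
    rw [specializes_iff_mem_closure]
    refine closure_minimal ?_ (isClosed_closure.preimage (isInducing_pImg G).continuous) (hL.subset hx)
    intro y hy
    obtain ⟨a, ha, hay⟩ := pImg_powPts_mem G hy
    show pImg G y ∈ closure _
    rw [← hay, ← specializes_iff_mem_closure]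
    exact (hΘ.specializes ha).map (powMap G n).left.continuous
  have hsub : (L : Set (𝟙_ (Over (Spec (CommRingCat.of Ω))) ⟶ G)) ∩ pImg G ⁻¹' V ⊆ J := fun x hx =>
    mem_powPts G (hVsub _ hx.2 (hLZ x hx.1))
  obtain ⟨a, ⟨haV, haΘ⟩, hac⟩ := nonempty_inter_closedPoints
    (Z := V ∩ closure {(powMap G n).left.base Θ}) ⟨_, hΘV, subset_closure rfl⟩
    (hV.isLocallyClosed.inter isClosed_closure.isLocallyClosed)
  obtain ⟨x, rfl⟩ := exists_pImg G a hac
  have hx : x ∈ J := mem_powPts G (hVsub _ haV (specializes_iff_mem_closure.2 haΘ))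
  have hle : L ≤ J := le_of_open_piece (algTop G) hLi (hV.preimage (isInducing_pImg G).continuous)
    ⟨x, hL.symm.subset (subset_closure hx), haV⟩ hsub
  have he : L = J := le_antisymm hle fun y hy => hL.symm.subset (subset_closure hy)
  show IsClosed (SetLike.coe J)
  rw [← he, hL]
  exact isClosed_closure

/-- The powers by `p ^ s` are eventually stationary. -/
theorem exists_stationary (p : ℕ) : ∃ s : ℕ, ∀ t, s ≤ t → powPts G (p ^ t) = powPts G (p ^ s) := by
  haveI : IsLocallyNoetherian G.left := LocallyOfFiniteType.isLocallyNoetherian G.hom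
  haveI : TopologicalSpace.NoetherianSpace G.left := by
    haveI : IsNoetherian G.left := {}
    infer_instance
  let F : ℕ → TopologicalSpace.Closeds G.left := fun s => TopologicalSpace.Closeds.closure
    (pImg G '' (powPts G (p ^ s) : Set (𝟙_ (Over (Spec (CommRingCat.of Ω))) ⟶ G)))
  have hmono : ∀ {a b : ℕ}, a ≤ b → powPts G (p ^ b) ≤ powPts G (p ^ a) := fun {a b} hab => by
    rw [show p ^ b = p ^ a * p ^ (b - a) by rw [← pow_add, Nat.add_sub_cancel' hab]]
    exact powPts_mul_le G _ _
  obtain ⟨_, ⟨s, rfl⟩, hs⟩ := WellFounded.has_min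
    (wellFounded_lt (α := TopologicalSpace.Closeds G.left)) (Set.range F) (Set.range_nonempty F)
  refine ⟨s, fun t hst => le_antisymm (hmono hst) fun x hx => ?_⟩
  have hle : F t ≤ F s := closure_mono (Set.image_mono (hmono hst))
  have he : F t = F s := eq_of_le_of_not_lt hle (hs _ ⟨t, rfl⟩)
  have h1 : pImg G x ∈ (F t : Set G.left) := he ▸ subset_closure ⟨x, hx, rfl⟩
  have h2 : x ∈ closure (powPts G (p ^ t) : Set (𝟙_ (Over (Spec (CommRingCat.of Ω))) ⟶ G)) := by
    rw [(isInducing_pImg G).closure_eq_preimage_closure_image]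
    exact h1
  exact (isClosed_powPts G (p ^ t)).closure_subset h2

/-- Neutral points are `p ^ r`-divisible up to `p`-power torsion. -/
theorem exists_root_mod_torsion (p r : ℕ) {x : 𝟙_ (Over (Spec (CommRingCat.of Ω))) ⟶ G}
    (hx : x ∈ neutralPts G) : ∃ w ∈ neutralPts G, ∃ s : ℕ, (x * (w ^ (p ^ r))⁻¹) ^ (p ^ s) = 1 := by
  obtain ⟨s, hs⟩ := exists_stationary G p
  have h : x ^ (p ^ s) ∈ powPts G (p ^ (s + r)) := (hs _ (Nat.le_add_right s r)).symm ▸ ⟨x, hx, rfl⟩
  obtain ⟨w, hw, he⟩ := h
  refine ⟨w, hw, s, ?_⟩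
  rw [powMonoidHom_apply] at he
  rw [mul_pow, inv_pow, ← pow_mul, ← pow_add, add_comm r s, he, mul_inv_cancel]

/-- The component group of a quasi-compact group is finite. -/
theorem finite_quotient :
    Finite ((𝟙_ (Over (Spec (CommRingCat.of Ω))) ⟶ G) ⧸ neutralPts G) := by
  haveI : IsLocallyNoetherian G.left := LocallyOfFiniteType.isLocallyNoetherian G.hom
  haveI : Finite (_root_.ConnectedComponents G.left) := by
    haveI : DiscreteTopology (_root_.ConnectedComponents G.left) := by
      refine discreteTopology_iff_isOpen_singleton.2 fun a => ?_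
      obtain ⟨x, rfl⟩ := ConnectedComponents.surjective_coe a
      rw [← ConnectedComponents.isQuotientMap_coe.isOpen_preimage, connectedComponents_preimage_singleton]
      exact SGA3cLib.isOpen_connectedComponent x
    exact finite_of_compact_of_discrete
  exact (card_quotient_le G (c := Nat.card (_root_.ConnectedComponents G.left))
    (ENat.card_eq_coe_natCard _).le).1

end Groth.Agent.NeronComp27
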