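import Groth.Agent.NeronComp27.Divisible

/-!
# Lifting elements of the component group to points
-/

set_option autoImplicit false
set_option backward.isDefEq.respectTransparency.types false
set_option linter.style.haveILetI false

universe u

open CategoryTheory Limits MonoidalCategory CartesianMonoidalCategory AlgebraicGeometry MonObj
open Groth.Agent.SGA3Bounded26

namespace Groth.Agent.NeronComp27

/-- If classes of `p`-power order lift with their order and the subgroup is divisible by exponents prime to `p`,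
all classes lift with their order. -/
theorem exists_lift_of_pPart {Γ : Type*} [CommGroup Γ] (H : Subgroup Γ) [Finite (Γ ⧸ H)] (p : ℕ) (hp : p.Prime)
    (hdiv : ∀ m : ℕ, p.Coprime m → ∀ h ∈ H, ∃ w ∈ H, w ^ m = h)
    (hp' : ∀ x : Γ, (∃ r : ℕ, x ^ (p ^ r) ∈ H) → ∃ y : Γ, x⁻¹ * y ∈ H ∧ ∀ n : ℕ, y ^ n = 1 ↔ x ^ n ∈ H)
    (x : Γ) : ∃ y : Γ, x⁻¹ * y ∈ H ∧ ∀ n : ℕ, y ^ n = 1 ↔ x ^ n ∈ H := by
  let N := orderOf (x : Γ ⧸ H)
  have hN0 : N ≠ 0 := (orderOf_pos (x : Γ ⧸ H)).ne'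
  have hN : ∀ n : ℕ, x ^ n ∈ H ↔ N ∣ n := fun n => by
    rw [← QuotientGroup.eq_one_iff, QuotientGroup.mk_pow, orderOf_dvd_iff_pow_eq_one]
  obtain ⟨r, m, hpm, hNrm⟩ := Nat.exists_eq_pow_mul_and_not_dvd hN0 p hp.ne_one
  have hcop : p.Coprime m := hp.coprime_iff_not_dvd.2 hpm
  obtain ⟨u, v, huv⟩ : ∃ u v : ℤ, (m : ℤ) * u + (p : ℤ) ^ r * v = 1 := by
    refine ⟨Nat.gcdB (p ^ r) m, Nat.gcdA (p ^ r) m, ?_⟩
    have h := Nat.gcd_eq_gcd_ab (p ^ r) m
    rw [(hcop.pow_left r).gcd_eq_one] at h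
    push_cast at h
    linear_combination -h
  let a := x ^ ((m : ℤ) * u)
  let b := x ^ ((p : ℤ) ^ r * v)
  have hab : a * b = x := by rw [← zpow_add, huv, zpow_one]
  have hxN : x ^ N ∈ H := (hN N).2 dvd_rfl
  have hap : a ^ (p ^ r) ∈ H := by
    have e : a ^ (p ^ r) = (x ^ N) ^ u := by
      simp only [a]
      rw [← zpow_natCast, ← zpow_mul, ← zpow_natCast x N, ← zpow_mul, hNrm]
      congr 1
      push_cast
      ring
    exact e ▸ zpow_mem hxN u
  have hbm : b ^ m ∈ H := by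
    have e : b ^ m = (x ^ N) ^ v := by
      simp only [b]
      rw [← zpow_natCast, ← zpow_mul, ← zpow_natCast x N, ← zpow_mul, hNrm]
      congr 1
      push_cast
      ring
    exact e ▸ zpow_mem hxN v
  obtain ⟨ya, hya, hyan⟩ := hp' a ⟨r, hap⟩
  obtain ⟨w, hw, hwm⟩ := hdiv m hcop (b ^ m)⁻¹ (inv_mem hbm)
  refine ⟨ya * (b * w), ?_, fun n => ⟨fun h => ?_, fun h => ?_⟩⟩
  · rw [← hab, show (a * b)⁻¹ * (ya * (b * w)) = (a⁻¹ * ya) * w by
      rw [mul_inv, _root_.mul_mul_mul_comm, inv_mul_cancel_left]]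
    exact mul_mem hya hw
  · have h1 : x⁻¹ * (ya * (b * w)) ∈ H := by
      rw [← hab, show (a * b)⁻¹ * (ya * (b * w)) = (a⁻¹ * ya) * w by
        rw [mul_inv, _root_.mul_mul_mul_comm, inv_mul_cancel_left]]
      exact mul_mem hya hw
    have h2 := pow_mem h1 n
    rw [mul_pow, h, _root_.mul_one, inv_pow] at h2
    exact (H.inv_mem_iff).1 h2
  · obtain ⟨c, rfl⟩ := (hN n).1 h
    rw [pow_mul, hNrm, mul_pow, pow_mul ya, (hyan (p ^ r)).2 hap, one_pow, _root_.one_mul,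
      mul_comm (p ^ r) m, pow_mul (b * w), mul_pow b w m, hwm, mul_inv_cancel, one_pow, one_pow]

variable {Ω : Type u} [Field Ω] [IsAlgClosed Ω] (G : Over (Spec (CommRingCat.of Ω))) [GrpObj G]
  [LocallyOfFiniteType G.hom] [IsCommMonObj G] [CompactSpace G.left]

/-- A class of `p`-power order is represented by a `p`-power torsion point. -/
theorem exists_pPower_lift (p r : ℕ) (x : 𝟙_ (Over (Spec (CommRingCat.of Ω))) ⟶ G)
    (hx : pImg G (x ^ (p ^ r)) ∈ connectedComponent (pImg G 1)) :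
    ∃ y : 𝟙_ (Over (Spec (CommRingCat.of Ω))) ⟶ G,
      pImg G y ∈ connectedComponent (pImg G x) ∧ ∃ s : ℕ, y ^ (p ^ s) = 1 := by
  obtain ⟨w, hw, s, hs⟩ := exists_root_mod_torsion G p r (x := x ^ (p ^ r)) hx
  refine ⟨x * w⁻¹, ?_, r + s, ?_⟩
  · rw [mem_component_iff, inv_mul_cancel_left]
    exact (inv_mem hw : w⁻¹ ∈ neutralPts G)
  · rw [pow_add, pow_mul, mul_pow, inv_pow]
    exact hs

/-- Lifts with the right order exist if they exist on the `p`-part. -/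
theorem exists_order_lift (p : ℕ) [Fact p.Prime] [CharP Ω p]
    (hp' : ∀ x : 𝟙_ (Over (Spec (CommRingCat.of Ω))) ⟶ G,
      (∃ r : ℕ, pImg G (x ^ (p ^ r)) ∈ connectedComponent (pImg G 1)) →
      ∃ y : 𝟙_ (Over (Spec (CommRingCat.of Ω))) ⟶ G, pImg G y ∈ connectedComponent (pImg G x) ∧
        ∀ n : ℕ, y ^ n = 1 ↔ pImg G (x ^ n) ∈ connectedComponent (pImg G 1))
    (x : 𝟙_ (Over (Spec (CommRingCat.of Ω))) ⟶ G) :
    ∃ y : 𝟙_ (Over (Spec (CommRingCat.of Ω))) ⟶ G, pImg G y ∈ connectedComponent (pImg G x) ∧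
      ∀ n : ℕ, y ^ n = 1 ↔ pImg G (x ^ n) ∈ connectedComponent (pImg G 1) := by
  haveI := finite_quotient G
  have hdiv : ∀ m : ℕ, p.Coprime m → ∀ h ∈ neutralPts G, ∃ w ∈ neutralPts G, w ^ m = h := fun m hm h hh => by
    refine exists_root G (fun h0 => ?_) hh
    have hpm := (CharP.cast_eq_zero_iff Ω p m).1 h0
    exact (Nat.Prime.coprime_iff_not_dvd (Fact.out : p.Prime)).1 hm hpm
  obtain ⟨y, hy, hyn⟩ := exists_lift_of_pPart (neutralPts G) p Fact.out hdiv (fun z hz => by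
    obtain ⟨y, hy, hyn⟩ := hp' z hz
    exact ⟨y, (mem_component_iff G z y).1 hy, hyn⟩) x
  exact ⟨y, (mem_component_iff G x y).2 hy, hyn⟩

end Groth.Agent.NeronComp27
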