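import Groth.Agent.NeronComp27.Lift
import Groth.Agent.SGA7Aut29.PowSurj
import Groth.Agent.AlgGrpLib.TorusToProper
import Groth.Prelude.Def_SGA7IX

/-!
Divisibility of the neutral points of a group without additive subgroups.
-/

set_option autoImplicit false
set_option backward.isDefEq.respectTransparency.types false
set_option linter.style.haveILetI false

universe u

open CategoryTheory Limits MonoidalCategory CartesianMonoidalCategory AlgebraicGeometry MonObj
open Groth.Agent.SGA3Bounded26 Groth.Agent.SGA3cLib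

noncomputable section

namespace Groth.Agent.NeronComp27

section Points

variable {Ω : Type u} [Field Ω] [IsAlgClosed Ω] (G : Over (Spec (CommRingCat.of Ω))) [GrpObj G]
  [Smooth G.hom] [IsCommMonObj G]

theorem exists_root_of_noGa
    (hGa : ∀ j : Red.Ga (Spec (CommRingCat.of Ω)) ⟶ G, IsMonHom j → IsClosedImmersion j.left → False)
    {n : ℕ} (hn : 0 < n) {x : 𝟙_ (Over (Spec (CommRingCat.of Ω))) ⟶ G} (hx : x ∈ neutralPts G) :
    ∃ w ∈ neutralPts G, w ^ n = x := by
  obtain ⟨U, gU, i, hi, hci, hUs, hUc, hrange⟩ := SGA7Aut29.exists_component G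
  letI := gU
  haveI := hi
  haveI := hci
  haveI := hUs
  haveI := hUc
  haveI : Mono i := Over.mono_of_mono_left i
  haveI : IsCommMonObj U := SGA7Aut29.isCommMonObj_of_mono i
  have hr : Set.range i.left.base = connectedComponent (pImg G 1) := by rw [hrange, pImg_one]
  obtain ⟨a, ha⟩ : pImg G x ∈ Set.range i.left.base := by rw [hr]; exact hx
  have hsurj : Surjective ((𝟙 U : U ⟶ U) ^ n).left := SGA7Aut29.surjective_pow U (fun j hj hjc => by
    haveI := hj
    haveI := hjc
    exact hGa (j ≫ i) inferInstance (by rw [Over.comp_left]; infer_instance)) hn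
  haveI : JacobsonSpace U.left := LocallyOfFiniteType.jacobsonSpace U.hom
  have haclosed : IsClosed ({a} : Set U.left) := by
    have h := (isClosed_pImg G x).preimage i.left.continuous
    have he : i.left.base ⁻¹' {pImg G x} = ({a} : Set U.left) := by
      ext b
      simp only [Set.mem_preimage, Set.mem_singleton_iff, ← ha]
      exact ⟨fun e => i.left.isEmbedding.injective e, fun e => by rw [e]⟩
    rwa [he] at h
  obtain ⟨b, hb⟩ := hsurj.surj a
  obtain ⟨c, hc, hcc⟩ := nonempty_inter_closedPoints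
    (Z := ((𝟙 U : U ⟶ U) ^ n).left.base ⁻¹' {a}) ⟨b, hb⟩
    (haclosed.preimage ((𝟙 U : U ⟶ U) ^ n).left.continuous).isLocallyClosed
  obtain ⟨w, rfl⟩ := exists_pImg U c hcc
  refine ⟨w ≫ i, ?_, pImg_injective G ?_⟩
  · show i.left.base (pImg U w) ∈ connectedComponent (pImg G 1)
    rw [← hr]
    exact ⟨_, rfl⟩
  · rw [← MonObj.pow_comp, ← ha]
    show i.left.base (pImg U (w ^ n)) = i.left.base a
    rw [← SGA7Aut29.comp_pow_id]
    exact congrArg i.left.base hc

variable [CompactSpace G.left]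

theorem exists_order_lift_of_noGa
    (hGa : ∀ j : Red.Ga (Spec (CommRingCat.of Ω)) ⟶ G, IsMonHom j → IsClosedImmersion j.left → False)
    (x : 𝟙_ (Over (Spec (CommRingCat.of Ω))) ⟶ G) :
    ∃ y : 𝟙_ (Over (Spec (CommRingCat.of Ω))) ⟶ G, pImg G y ∈ connectedComponent (pImg G x) ∧
      ∀ n : ℕ, y ^ n = 1 ↔ pImg G (x ^ n) ∈ connectedComponent (pImg G 1) := by
  haveI := finite_quotient G
  let N := orderOf (x : (𝟙_ (Over (Spec (CommRingCat.of Ω))) ⟶ G) ⧸ neutralPts G)
  have hN : ∀ n : ℕ, x ^ n ∈ neutralPts G ↔ N ∣ n := fun n => by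
    rw [← QuotientGroup.eq_one_iff, QuotientGroup.mk_pow, orderOf_dvd_iff_pow_eq_one]
  have hN0 : 0 < N := orderOf_pos _
  obtain ⟨w, hw, hwN⟩ := exists_root_of_noGa G hGa hN0 ((hN N).2 dvd_rfl)
  have hyH : x⁻¹ * (x * w⁻¹) ∈ neutralPts G := by rw [inv_mul_cancel_left]; exact inv_mem hw
  refine ⟨x * w⁻¹, (mem_component_iff G _ _).2 hyH, fun n => ⟨fun h => ?_, fun h => ?_⟩⟩
  · have h2 := pow_mem hyH n
    rw [mul_pow, h, _root_.mul_one, inv_pow] at h2
    exact (inv_mem_iff).1 h2
  · obtain ⟨c, rfl⟩ := (hN n).1 h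
    rw [pow_mul, mul_pow, inv_pow, hwN, mul_inv_cancel, one_pow]

end Points

theorem exists_factor_residue {R : Type u} [CommRing R] [IsLocalRing R] {Ω : Type u} [Field Ω]
    (g : Spec (CommRingCat.of Ω) ⟶ Spec (CommRingCat.of R))
    (hg : g.base (IsLocalRing.closedPoint Ω) = IsLocalRing.closedPoint R) :
    ∃ c : Spec (CommRingCat.of Ω) ⟶ Spec (CommRingCat.of (IsLocalRing.ResidueField R)),
      c ≫ Spec.map (CommRingCat.ofHom (IsLocalRing.residue R)) = g := by
  obtain ⟨φ, rfl⟩ := Spec.map_surjective g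
  haveI : IsLocalHom φ.hom := ⟨fun a ha => by
    by_contra hna
    have h1 : a ∈ ((Spec.map φ).base (IsLocalRing.closedPoint Ω)).asIdeal := by
      rw [hg]
      exact hna
    have h2 : φ.hom a ∈ IsLocalRing.maximalIdeal Ω := h1
    exact (IsLocalRing.mem_maximalIdeal _).1 h2 ha⟩
  refine ⟨Spec.map (CommRingCat.ofHom (IsLocalRing.ResidueField.lift φ.hom)), ?_⟩
  rw [← Spec.map_comp]
  rfl

theorem geomPt_apply {S : Scheme.{u}} (s : S) (z : Spec (CommRingCat.of (AlgebraicClosure (S.residueField s)))) :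
    (Red.geomPt s).base z = s := by
  simp only [Scheme.Hom.comp_base, TopCat.hom_comp, ContinuousMap.comp_apply]
  exact S.fromSpecResidueField_apply s _

theorem noGa_of_bc {S T T' : Scheme.{u}} (N : Over S) [GrpObj N] (f : T ⟶ S) (c : T' ⟶ T) (ω : T' ⟶ S)
    (hc : c ≫ f = ω)
    (h : ∀ j : Red.Ga T' ⟶ Red.bc ω N, IsMonHom j → IsClosedImmersion j.left → False)
    (j : Red.Ga T ⟶ Red.bc f N) (hj : IsMonHom j) (hjc : IsClosedImmersion j.left) : False := by
  haveI := hj
  let α := GrpBC.bcCongr f c ω hc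
  let β := GrpBC.bcCongr (Limits.IsTerminal.from specULiftZIsTerminal T) c
    (Limits.IsTerminal.from specULiftZIsTerminal T') (specULiftZIsTerminal.hom_ext _ _)
  let a : Red.bc c (Red.bc f N) ≅ Red.bc ω N := α.app N
  let b : Red.bc c (Red.Ga T) ≅ Red.Ga T' := β.app Red.GaZ
  haveI : IsMonHom a.hom := (GrpBC.isMonHom_app α N).1
  haveI : IsMonHom b.hom := (GrpBC.isMonHom_app β Red.GaZ).1
  haveI : IsMonHom b.inv := inferInstance
  haveI : IsMonHom ((Over.pullback c).map j) := inferInstance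
  haveI : IsClosedImmersion ((Over.pullback c).map j).left :=
    MorphismProperty.of_isPullback (MultHomLocus.isPullback_map j c) hjc
  refine h (b.inv ≫ (Over.pullback c).map j ≫ a.hom) inferInstance ?_
  rw [Over.comp_left, Over.comp_left]
  haveI : IsIso b.inv.left := inferInstanceAs (IsIso ((Over.forget _).map b.inv))
  haveI : IsIso a.hom.left := inferInstanceAs (IsIso ((Over.forget _).map a.hom))
  infer_instance

theorem noGa_specialFibre {R : Type u} [CommRing R] [IsLocalRing R]
    (N : Over (Spec (CommRingCat.of R))) [GrpObj N] (hss : SGA7.FibresUnipotentRankZero N)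
    (j : Red.Ga (Spec (CommRingCat.of (IsLocalRing.ResidueField R))) ⟶
      Red.bc (Spec.map (CommRingCat.ofHom (IsLocalRing.residue R))) N)
    (hj : IsMonHom j) (hjc : IsClosedImmersion j.left) : False :=
  (exists_factor_residue (Red.geomPt (IsLocalRing.closedPoint R : ↥(Spec (CommRingCat.of R))))
    (geomPt_apply _ _)).elim fun c hc =>
      noGa_of_bc N _ c _ hc (hss _) j hj hjc

end Groth.Agent.NeronComp27
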